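import Cfsg.Agent.Fus.Two
import Cfsg.Agent.Fus.Sparse
import Cfsg.Agent.Fus.Semi
import Cfsg.Agent.Sig.S4H

/-! `S₄`-free fusion systems are solvable, given the composition factors of `S₃`-free groups. -/

set_option autoImplicit false

namespace CF.Fus
open Cfsg Cfsg.FusionSystem Subgroup
open CF.Sig (Fr3 Jh FJ FW CharP)
open CF.BG (Syl)

universe u

/-- `S₄`-free groups of characteristic `2` have the expected simple sections -/
def K3 : Prop := ∀ (G : Type u) [Group G] [Finite G], CF.Transfer.IsCharPGroup 2 G →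
  ¬ Involves (Equiv.Perm (Fin 4)) G → Fr3 (⊤ : Subgroup G)

theorem pf_FJ : PF.{u} 2 fun _ _ P => inducedFunctor FJ P := pf_induced CF.Sig.cpf_J
theorem pf_FW : PF.{u} 2 fun _ _ P => inducedFunctor FW P := pf_induced CF.Sig.cpf_W

variable {Ω : Type u} [Group Ω] {S T Q : Subgroup Ω} {F : FusionSystem S}

theorem cast_ind {C : ∀ T : Subgroup Ω, FusionSystem T → Prop} (h : C S F) (e : S = T) : C T (cast F e) := by
  subst e; exact h

theorem K3.model (k : K3.{u}) (hF : Sat F 2) (hf : F.IsSectionFree 2 (Equiv.Perm (Fin 4))) (hc : F.IsConstrained 2) :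
    ∃ (L : Type u) (_ : Group L) (_ : Finite L) (t : Ω → L), Model F 2 t ∧ Fr3 (⊤ : Subgroup L) ∧
      CharP 2 (⊤ : Subgroup L) ∧ Syl 2 (img t S) ⊤ ∧ img t (inducedFunctor FJ S) = thompsonSubgroupOf 2 (img t S) ∧
      img t (inducedFunctor FW S) = omegaOne 2 (Jh (img t S) ⊓ centralizer (Jh (img t S) : Set L)) := by
  obtain ⟨L, _, t, hm⟩ := hF.exists_model hc
  haveI := hm.fin
  haveI := hF.fin
  obtain ⟨P, hP⟩ := hm.syl.exists_sylow
  exact ⟨L, _, ‹_›, t, hm, k L hm.cent' ((mfree_of_sf hF hf).not_involves hm), CF.Sig.charP_top.2 hm.cent',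
    hP ▸ CF.BG.syl_sylow_top P, (pf_FJ.map hF.pg hm.real.piso).trans (CF.Sig.ind_J _),
    (pf_FW.map hF.pg hm.real.piso).trans (CF.Sig.ind_W _)⟩

theorem K3.core_ne (k : K3.{u}) (hF : Sat F 2) (hf : F.IsSectionFree 2 (Equiv.Perm (Fin 4))) (h0 : S ≠ ⊥)
    (loc : ∀ T (hT : F.IsFullyNormalized T), T ≠ ⊥ → (norF F hT.1).IsConstrained 2) : F.core ≠ ⊥ := by
  haveI := hF.fin
  have top : ∀ {Q}, Q ≤ S → S ≤ normalizer (Q : Set Ω) → Q ≠ ⊥ → ∃ N : FusionSystem S, Sat N 2 ∧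
      N.IsSectionFree 2 (Equiv.Perm (Fin 4)) ∧ N.IsConstrained 2 ∧ N.IsNormal Q ∧
      ∀ P f, Mor N P f ↔ NMor F Q P f := fun {Q} q n e =>
    have a := fn_of_norm F q n
    ⟨_, cast_ind (C := fun _ N => Sat N 2 ∧ N.IsSectionFree 2 (Equiv.Perm (Fin 4)) ∧ N.IsConstrained 2 ∧
      N.IsNormal Q ∧ ∀ P f, Mor N P f ↔ NMor F Q P f) ⟨hF.norF a, hF.sf_isNS a (isNS_norF F q) hf, loc Q a e,
      isNS_normal (isNS_norF F q) q, fun _ _ => mor_norF q⟩ (NS_eq_of_norm n)⟩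
  have hJ := pf_FJ.ffun hF
  have hW := pf_FW.ffun hF
  obtain ⟨z, z1, z2, z3⟩ : ∃ z ∈ CS S S, z ≠ 1 ∧ z ^ 2 = 1 := by
    haveI := (Subgroup.nontrivial_iff_ne_bot _).2 (CS_self_ne_bot hF.pg h0)
    obtain ⟨n, h1, h2⟩ := (hF.pgroup (CS_le (P := S))).nontrivial_iff_card.1 this
    obtain ⟨x, hx⟩ := exists_prime_orderOf_dvd_card' (G := CS S S) 2 (h2 ▸ dvd_pow_self 2 h1.ne')
    exact ⟨x, x.2, fun e => by simp [show x = 1 from Subtype.ext e] at hx,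
      congrArg Subtype.val (hx ▸ pow_orderOf_eq_one x)⟩
  set J := inducedFunctor FJ S
  set W := inducedFunctor FW S
  have j1 : J ≤ S := hJ.le S
  have w1 : W ≤ S := hW.le S
  obtain ⟨N, n1, n2, n3, -, n5⟩ := top j1 hJ.norm_top (pf_FJ.ne hF.pg h0)
  obtain ⟨L, _, _, t, hm, fr, ch, sy, eJ, eW⟩ := k.model n1 n2 n3
  have r := hm.real
  obtain ⟨C, c1, c2, c3⟩ := fr.fact12 ch sy
  have z4 : t z ∈ img t S ⊓ centralizer (img t S : Set L) := ⟨mem_img_of_mem z1.1, fun y hy => by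
    obtain ⟨x, hx, rfl⟩ := (r.mem_img le_rfl).1 hy
    rw [← r.mul hx z1.1, z1.2 x hx, r.mul z1.1 hx]⟩
  have z5 : t z ^ 2 = 1 := by rw [← r.mul.map_pow z1.1, z3, r.mul.map_one]
  have z6 : z ∈ J := r.mul.mem_of_mem_img j1 (fun x hx => by
    obtain ⟨a, b⟩ := r.mul.mem_ker.1 hx; rw [r.inj x a b]; exact one_mem _) z1.1 (eJ ▸
      (CF.PLocal.mem_centerThompson_of_center z4.1 z4.2 z5).1)
  have aJ : ∀ α ∈ F.autGroup J, NMor F J J (fn α) := fun α hα =>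
    (nmor_iff_of_le le_rfl).2 ⟨le_NS j1, mor_fn j1 hα, img_fn α⟩
  set A := closure {y | ∃ α ∈ F.autGroup J, fn α z = y}
  have a1 : A ≤ J := (closure_le _).2 fun _ ⟨α, _, e⟩ => e ▸ fn_mem α z6
  have a2 : A ≤ W := (closure_le _).2 fun _ ⟨α, hα, e⟩ => by
    obtain ⟨g, -, b⟩ := r.real ((n5 _ _).2 (aJ α hα))
    subst e
    refine r.mul.mem_of_mem_img w1 (fun x hx => by
      obtain ⟨a, b⟩ := r.mul.mem_ker.1 hx; rw [r.inj x a b]; exact one_mem _) (j1 (fn_mem α z6)) ?_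
    rw [eW]
    refine CF.BG.mem_Om ⟨CF.Sig.J_le_Jh _ (eJ ▸ mem_img_of_mem (fn_mem α z6)), fun y hy => ?_⟩
      (by rw [← b z z6, conj_pow, z5, mul_one, mul_inv_cancel])
    have := c2 (conj_mem_of_norm' (c1.norm (mem_top g)) (c3 hy)) _ z4
    rw [← b z z6]
    calc y * (g * t z * g⁻¹) = g * (g⁻¹ * y * g * t z) * g⁻¹ := by group
      _ = _ := by rw [← this]; group
  have b1 : ∀ P f, NMor F J P f → ∀ x ∈ P, x ∈ A → f x ∈ A := fun P f ⟨_, g, h1, h2, h3⟩ x hx hx' => by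
    obtain ⟨β, hβ, e⟩ := Iso.exists_aut ⟨h1.mono le_sup_right, h3⟩
    rw [← h2 x hx, ← e x (a1 hx')]
    refine img_le_iff.1 (((mulOn_fn β).mono a1).img_closure.le.trans (closure_mono ?_)) x hx'
    rintro _ ⟨_, ⟨α, hα, rfl⟩, rfl⟩
    exact ⟨β * α, mul_mem hβ hα, fn_mul _ _ _⟩
  obtain ⟨N', m1, m2, m3, m4, m5⟩ := top w1 hW.norm_top (pf_FW.ne hF.pg h0)
  obtain ⟨L', _, _, t', hm', -, -, sy', eJ', eW'⟩ := k.model m1 m2 m3
  have r' := hm'.real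
  have nW := (hm'.normal_iff w1).1 m4
  have cW : centralizer (img t' W : Set L') ≥ Jh (img t' S) := fun y hy w hw =>
    ((CF.BG.Om_le 2 _ (eW' ▸ hw)).2 y hy).symm
  have b2 : ∀ P f, NMor F W P f → ∀ x ∈ P, x ∈ A → f x ∈ A := fun P f hf x hx hx' => by
    obtain ⟨g, -, b⟩ := r'.real ((m5 _ _).2 hf)
    obtain ⟨c, hc, m, hm, e⟩ := CF.Sig.frattini_Jh sy' ⟨le_top, fun y _ =>
      CF.Transfer.normalizer_le_normalizer_centralizer _ (normalizer_eq_top (img t' W) ▸ mem_top y)⟩ cW (mem_top g⁻¹)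
    obtain ⟨φ, d1, d2⟩ := r'.nmor j1 hJ.norm_top j1 (mem_top m⁻¹) (eJ' ▸ Subgroup.inv_mem _ hm.1.2) fun y hy =>
      img_mono j1 (conj_mem_of_norm (eJ' ▸ Subgroup.inv_mem _ hm.1.2) (mem_img_of_mem hy))
    have d3 := b1 _ _ (d1.sub (sub_iff.2 fun P f h => ((m5 P f).1 h).mor)) x (a1 hx') hx'
    rwa [r'.inj' (d1.mor.maps (a1 hx')) (hf.mor.maps hx) (by
      rw [← d2 x (a1 hx'), ← b x hx, ← inv_inv g, e, inv_inv, mul_inv_rev, mul_assoc m⁻¹ c⁻¹,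
        ← Subgroup.inv_mem _ hc _ (mem_img_of_mem (a2 hx'))]; group)] at d3
  have mc : MC F fun P f => ∀ x ∈ P, x ∈ A → f x ∈ A :=
    ⟨fun _ h1 h2 h3 x hx hx' => h3 x hx ▸ h1 x (h2 hx) hx', fun _ _ h1 h2 h3 x hx hx' => h2 _ (h3 x hx) (h1 x hx hx')⟩
  have sc := hF.local_global_fam mc (W := fun i : Bool => bif i then inducedFunctor FJ else inducedFunctor FW)
    (fun i => by cases i; exacts [hW, hJ]) (fun i => by cases i; exacts [pf_FW.ne_NS hF, pf_FJ.ne_NS hF])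
    (fun i => by cases i; exacts [b2, b1]) fun T hT h1 h2 P f h3 => by
      have s := hF.norF hT
      obtain ⟨L, _, _, t, hm, fr, ch, sy, eJ, eW⟩ := k.model s (hF.sf_isNS hT (isNS_norF F hT.1) hf) (loc T hT h1)
      refine hm.real.gen_two (mc.sub (isNS_sub (isNS_norF F hT.1))) (hW.le _) (pf_FW.ffun s).norm_top (hJ.le _)
        (pf_FJ.ffun s).norm_top (fun g hg => ?_) (h2 false) (h2 true) P f ((mor_norF _).2 h3)
      obtain ⟨c, hc, m, hm, e⟩ := fr.fact3 ch sy hg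
      exact ⟨c, ⟨hc.1, eW ▸ centralizer_le_normalizer _ hc.2⟩, m, ⟨hm.1, eJ ▸ hm.2⟩, e⟩
  have hA := hF.normal_of_abelian (sc_iff.2 ⟨a1.trans j1, sc⟩) fun x hx y hy => r.inj' (mul_mem (j1 (a1 hy))
    (j1 (a1 hx))) (mul_mem (j1 (a1 hx)) (j1 (a1 hy))) (by
      rw [r.mul (j1 (a1 hy)) (j1 (a1 hx)), r.mul (j1 (a1 hx)) (j1 (a1 hy))]
      exact ((eW.le.trans (CF.BG.Om_le 2 _)) (mem_img_of_mem (a2 hx))).2 _
        ((eW.le.trans (CF.BG.Om_le 2 _)) (mem_img_of_mem (a2 hy))).1)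
  exact fun e => z2 (mem_bot.1 (e ▸ le_core hA (subset_closure ⟨1, one_mem _, fn_one z⟩)))

theorem K3.fsolv (k : K3.{u}) (hF : Sat F 2) (h : F.IsSectionFree 2 (Equiv.Perm (Fin 4))) : FSolv F := by
  haveI := hF.fin
  refine fus_ind (C := fun Ω _ S F => Sat F 2 → F.IsSectionFree 2 (Equiv.Perm (Fin 4)) → FSolv F)
    (fun Ω _ S _ F ih ih' hF h => ?_) Ω S F hF h
  by_cases h0 : S = ⊥
  · exact ⟨0, h0⟩
  have h2 : F.core ≠ ⊥ := fun e => k.core_ne hF h h0 (fun T hT h1 => (hF.norF hT).constrained_of_fsolv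
    (ih' _ _ (isNS_sub (isNS_norF F hT.1)) (norF_proper hT.1 fun c => h1 (le_bot_iff.1 (e ▸ c))) (hF.norF hT)
      (hF.sf_isNS hT (isNS_norF F hT.1) h))) e
  have h1 := normal_CS_self (core_normal F)
  obtain ⟨G, _, t, E, h4, h5, h6⟩ := hF.exists_quot (sc_of_normal h1)
  haveI := h6.fin
  haveI := fin_of_le h1.1
  haveI := hF.finite (core_le F)
  exact fsolv_ext (inv_inner h1) h4 h5.le ⟨1, le_bot_iff.1 (dser_succ_le le_rfl (sc_bot _)
    (commutator_eq_bot_iff_le_centralizer.2 (CS_le_cent.trans (centralizer_le CS_le))).le)⟩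
    (ih G ⊤ E (h4.card_lt (h5 ▸ CS_self_ne_bot (hF.pgroup (core_le F)) h2)) h6 (h4.toFac.sf hF (h5 ▸ h1) h))

theorem sf_of_S3 (hF : Sat F 2) (h : ∀ U : Subgroup Ω, U ≤ S → ¬ Involves (Equiv.Perm (Fin 3)) (F.autGroup U)) :
    F.IsSectionFree 2 (Equiv.Perm (Fin 4)) := sf_iff.2 fun Q h1 h2 N hN L _ t hm hi => by
  have hn := hF.nc_norF h1 h2 hN
  haveI := hm.fin
  haveI := hF.finite h1.1
  haveI : Fact (Nat.Prime 3) := ⟨Nat.prime_three⟩
  obtain ⟨π, -, a, -⟩ := (hm.qmod hn).exists_hom_aut hn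
  obtain ⟨x, -, y, -, ⟨k, b⟩, c, d⟩ := CF.Loc.inv_of_involves (p := 3) (by decide) hi (x := Equiv.swap 0 1)
    (y := Equiv.swap 0 1 * Equiv.swap 1 2) (orderOf_eq_prime (by decide) (by decide)) (by decide)
  refine h Q h1.1 (isNS_autGroup_self hN h1.1 ▸ CF.Loc.involves_S3_iff.2 ⟨π x, mem_top _, π y, mem_top _,
    ⟨k, by rw [← map_pow, b, map_one]⟩, orderOf_eq_prime (by rw [← map_pow, ← c, pow_orderOf_eq_one, map_one])
    fun e => ?_, by rw [← map_inv, ← map_mul, ← map_mul, d, map_inv]⟩)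
  obtain ⟨j, hj⟩ := isPGroup_iff_mem.1 (hm.syl.pg.to_le (img_mono CS_le)) y (a.le e)
  exact absurd (Nat.prime_three.dvd_of_dvd_pow (c ▸ orderOf_dvd_of_pow_eq_one hj)) (by decide)

theorem K3.constrained (k : K3.{u}) (hF : Sat F 2)
    (h : ∀ U : Subgroup Ω, U ≤ S → ¬ Involves (Equiv.Perm (Fin 3)) (F.autGroup U)) : F.IsConstrained 2 :=
  hF.constrained_of_fsolv (k.fsolv hF (sf_of_S3 hF h))

theorem sf_congr {X Y : Type*} [Group X] [Group Y] {p : ℕ} (e : X ≃* Y) (h : F.IsSectionFree p X) :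
    F.IsSectionFree p Y := sf_iff.2 fun Q h1 h2 N hN L _ t hm hi =>
  sf_iff.1 h Q h1 h2 N hN L t hm (CF.Transfer.involves_trans (CF.Transfer.involves_of_equiv e.symm) hi)

end CF.Fus
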