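import Cfsg.Agent.Fus.Ess

/-! Abelian essential subgroups on which the normalizer acts by transvections. -/

set_option autoImplicit false

namespace CF.Fus

open Cfsg Cfsg.FusionSystem Subgroup
open scoped commutatorElement IsMulCommutative

universe u

variable {Ω : Type u} [Group Ω] {S T R : Subgroup Ω} {F : FusionSystem S} {A B C D E N P Q U V W X Y Z : Subgroup Ω}
  {f g : Ω → Ω} {p n : ℕ} {K H : Subgroup (MulAut P)} {c d e s t w x y z : Ω}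

/-- the largest invariant subgroup of `D` -/
noncomputable def kc (K : Subgroup (MulAut P)) (D : Subgroup Ω) : Subgroup Ω := ⨅ β : K, pre (fn (β : MulAut P)) P D

theorem mem_kc : x ∈ kc K D ↔ x ∈ P ∧ ∀ β ∈ K, fn β x ∈ D := by
  simp only [kc, mem_iInf, (mulOn_fn _).mem_pre]
  exact ⟨fun h => ⟨(h 1).1, fun β hβ => (h ⟨β, hβ⟩).2⟩, fun h β => ⟨h.1, h.2 β β.2⟩⟩

theorem kc_le : kc K D ≤ D := fun x h => fn_one (P := P) x ▸ (mem_kc.1 h).2 1 (one_mem K)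

theorem le_stab_kc [Finite P] : K ≤ stab P (kc K D) := fun α hα =>
  have a : kc K D ≤ P := fun _ h => (mem_kc.1 h).1
  haveI := fin_of_le a
  mem_stab_of_maps a fun x h => mem_kc.2 ⟨fn_mem α (a h), fun β hβ => fn_mul β α x ▸ (mem_kc.1 h).2 _ (mul_mem hβ hα)⟩

theorem comm_of_cent (h : A ≤ centralizer (B : Set Ω)) (hx : x ∈ A) (hy : y ∈ B) : Commute x y := (h hx y hy).symm

theorem conj_eq_of_cent (h : A ≤ centralizer (B : Set Ω)) (hx : x ∈ A) (hy : y ∈ B) : y * x * y⁻¹ = x := by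
  rw [h hx y hy, mul_inv_cancel_right]

theorem inv_mul_conj_mem (hE : E ≤ centralizer (E : Set Ω)) (hD : D ≤ E) (he : e ∈ E) (h : D ⊔ zpowers e = E)
    (hs : s ∈ normalizer (E : Set Ω)) (hs' : ∀ d ∈ D, s * d * s⁻¹ = d) (hy : y ∈ E) :
    y⁻¹ * (s * y * s⁻¹) ∈ zpowers (e⁻¹ * (s * e * s⁻¹)) := by
  obtain ⟨d, hd, k, rfl⟩ := (mem_sup_zpowers (centralizer_le_normalizer _ (centralizer_le hD (hE he)))).1 (h.ge hy)
  refine ⟨k, ?_⟩
  beta_reduce
  rw [(comm_of_cent hE (E.inv_mem he) (conj_mem_of_norm hs he)).mul_zpow, conj_zpow,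
    show s * (d * e ^ k) * s⁻¹ = s * d * s⁻¹ * (s * e ^ k * s⁻¹) by group, hs' d hd]
  group

variable [Fact p.Prime]

/-- `N_S(E)` acts on the abelian essential subgroup `E` by transvections with axis `D` and centre `z` -/
structure TV (F : FusionSystem S) (p : ℕ) (E D : Subgroup Ω) (z : Ω) : Prop where
  sat : Sat F p
  ess : F.IsEssential p E
  comm : E ≤ centralizer (E : Set Ω)
  le : D ≤ E
  cent : D ≤ centralizer (NS S E : Set Ω)
  idx : D.relIndex E = p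
  idx' : E.relIndex (NS S E) = p
  mem : z ∈ D
  pow : z ^ p = 1
  ne : z ≠ 1
  conj : ∀ s ∈ NS S E, ∀ y ∈ E, y⁻¹ * (s * y * s⁻¹) ∈ zpowers z
  gen : ∃ s ∈ NS S E, ∃ y ∈ E, z = y⁻¹ * (s * y * s⁻¹)

theorem Sat.exists_tv (hF : Sat F p) (hE : F.IsEssential p E) (h1 : E ≤ centralizer (E : Set Ω)) (h2 : D ≤ E)
    (h3 : D ≤ centralizer (NS S E : Set Ω)) (h4 : D.relIndex E = p) : ∃ z, TV F p E D z := by
  haveI := hF.fin
  haveI := hF.finite (hF.ess_lt hE).le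
  haveI := fin_of_le h2
  obtain ⟨α, hα⟩ := hF.exists_gen hE
  obtain ⟨x, x1, x2⟩ := SetLike.exists_of_lt (hF.ess_NS hE)
  obtain ⟨e, e1, e2⟩ := exists_of_prime h4
  have a1 : ∀ s ∈ NS S E, e⁻¹ * (s * e * s⁻¹) ∈ D := fun s hs =>
    let ⟨_, hk⟩ := isPGroup_iff_mem.1 hF.pg s hs.1
    conj_triv_of_prime h2 ((h1.trans (centralizer_le h2)).trans (centralizer_le_normalizer _)) h4
      (centralizer_le_normalizer _ (le_centralizer_iff.1 h3 hs)) hs.2 hk e1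
  have a2 : MulOn (fun s => e⁻¹ * (s * e * s⁻¹)) (NS S E) := fun s hs t ht => by
    beta_reduce
    rw [← conj_eq_of_cent h3 (a1 t ht) hs]; group
  have a3 : ∀ s ∈ NS S E, ∀ y ∈ E, y⁻¹ * (s * y * s⁻¹) ∈ zpowers (e⁻¹ * (s * e * s⁻¹)) := fun s hs y =>
    inv_mul_conj_mem h1 h2 e1 (sup_zpowers_eq h4 h2 e1 e2) hs.2 fun d hd => conj_eq_of_cent h3 hd hs
  have a4 : pre (fun s => e⁻¹ * (s * e * s⁻¹)) (NS S E) (img (fn α) D ⊓ D) ≤ E := fun s hs =>
    let ⟨b1, b2⟩ := a2.mem_pre.1 hs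
    hα.mem₂ hF hE x1 x2 x1 x2 (inf_le_right.trans h2) (fun d hd => by rwa [conj_eq_of_cent h3 hd.2 x1])
      (fun d hd => by
        obtain ⟨u, hu, rfl⟩ := ((mulOn_fn α).mono h2).mem_img.1 hd.1
        rwa [fn_inv_fn, conj_eq_of_cent h3 hu x1]) b1 (fun u hu => zpowers_le.2 b2 (a3 s b1 u hu))
      fun u hu => conj_eq_of_cent h3 hu.2 b1
  have a5 : E.relIndex (NS S E) = p := relIndex_eq_prime (hF.pgroup NS_le) (hF.ess_NS hE).not_ge (by
    refine (relIndex_le_of_le_left a4 relIndex_ne_zero').trans ?_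
    rw [a2.relIndex_pre]
    refine (relIndex_le_of_le_right (img_le_iff.2 a1) relIndex_ne_zero').trans ?_
    rw [inf_relIndex_right, ← h4, ← (piso_fn α).relIndex_img h2 le_rfl, img_fn]
    exact relIndex_le_of_le_right h2 relIndex_ne_zero')
  have a6 : ∀ y ∈ E, e⁻¹ * (y * e * y⁻¹) = 1 := fun y hy => by rw [conj_eq_of_cent h1 e1 hy, inv_mul_cancel]
  refine ⟨_, hF, hE, h1, h2, h3, h4, a5, a1 x x1, ?_, fun h => x2 (hF.ess_centric hE ⟨x1.1, fun y hy => ?_⟩),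
    fun s hs y hy => zpowers_le.2 ?_ (a3 s hs y hy), x, x1, e, e1, rfl⟩
  · exact (a2.map_pow x1 p).symm.trans (a6 _ (pow_mem_of_prime NS_le_norm a5 x1))
  · have := a3 x x1 y hy
    rw [h, zpowers_one_eq_bot, mem_bot, inv_mul_eq_one] at this
    exact (mul_inv_eq_iff_eq_mul.1 this.symm).symm
  · obtain ⟨u, hu, k, rfl⟩ := (mem_sup_zpowers x1.2).1 ((sup_zpowers_eq a5 (hF.ess_NS hE).le x1 x2).ge hs)
    have := a2 ((hF.ess_NS hE).le hu) (zpow_mem x1 k)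
    beta_reduce at this
    rw [this, a6 u hu, one_mul]
    exact ⟨k, (a2.map_zpow x1 k).symm⟩

namespace TV
variable {α β γ : MulAut E}

theorem leS (h : TV F p E D z) : E ≤ S := (h.sat.ess_lt h.ess).le
theorem fin (h : TV F p E D z) : Finite E := h.sat.finite h.leS
theorem memE (h : TV F p E D z) : z ∈ E := h.le h.mem
theorem leN (h : TV F p E D z) : E ≤ NS S E := le_NS h.leS
theorem normD (h : TV F p E D z) (hy : y ∈ E) : y ∈ normalizer (D : Set Ω) :=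
  centralizer_le_normalizer _ (centralizer_le h.le (h.comm hy))

theorem mem_of_fix (h : TV F p E D z) (hx : x ∈ NS S E) (hx' : x ∉ E) (hy : y ∈ E) (e : x * y * x⁻¹ = y) : y ∈ D :=
  by_contra fun hy' => hx' (h.sat.ess_centric h.ess ⟨hx.1, fun _ hu => mem_centralizer_singleton_iff.1
    ((sup_le (fun d hd => mem_centralizer_singleton_iff.2 (h.cent hd x hx).symm) (zpowers_le.2
      (mem_centralizer_singleton_iff.2 (mul_inv_eq_iff_eq_mul.1 e).symm)) : D ⊔ zpowers y ≤ centralizer {x})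
        ((sup_zpowers_eq h.idx h.le hy hy').ge hu))⟩)

theorem stab_of_ext (h : TV F p E D z) {β : MulAut (NS S E)} (e : ∀ x ∈ E, fn α x = fn β x) :
    α ∈ stab E D ∧ α ∈ stab E (zpowers z) := by
  haveI := h.fin
  haveI := fin_of_le h.le
  haveI := fin_of_le (zpowers_le.2 h.memE)
  obtain ⟨x, x1, x2⟩ := exists_of_prime h.idx'
  obtain ⟨s, s1, y, y1, b⟩ := h.gen
  refine ⟨mem_stab_of_maps h.le fun d hd => h.mem_of_fix x1 x2 (fn_mem α (h.le hd)) ?_,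
    mem_stab_of_maps (zpowers_le.2 h.memE) ?_⟩
  · rw [e d (h.le hd), ← fn_fn_inv β x, ← (mulOn_fn β).map_conj (fn_mem _ x1) (h.leN (h.le hd)),
      conj_eq_of_cent h.cent hd (fn_mem _ x1)]
  · rintro _ ⟨k, rfl⟩
    beta_reduce
    rw [(mulOn_fn α).map_zpow h.memE, e z h.memE]
    refine zpow_mem ?_ k
    nth_rw 2 [b]
    rw [(mulOn_fn β).map_inv_mul (h.leN y1) (h.leN (conj_mem_of_norm s1.2 y1)), (mulOn_fn β).map_conj s1 (h.leN y1),
      ← e y y1]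
    exact h.conj _ (fn_mem β s1) _ (fn_mem α y1)

theorem notMem (h : TV F p E D z) (hα : Gen F E α) : fn α z ∉ D := fun c => by
  obtain ⟨x, x1, x2⟩ := exists_of_prime h.idx'
  refine x2 (hα.mem₂ h.sat h.ess x1 x2 x1 x2 h.le (fun d hd => by rwa [conj_eq_of_cent h.cent hd x1]) (fun d hd => ?_)
    x1 (fun u hu => zpowers_le.2 h.mem (h.conj x x1 u hu)) fun u hu => conj_eq_of_cent h.cent hu x1)
  have b := fn_mem α⁻¹ (h.le hd)
  obtain ⟨k, hk⟩ := mem_zpowers_iff.1 (h.conj x x1 _ b)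
  rw [← mul_inv_cancel_left (fn α⁻¹ d) (x * _ * _), ← hk, mulOn_fn α b (zpow_mem h.memE k), fn_fn_inv,
    (mulOn_fn α).map_zpow h.memE]
  exact mul_mem hd (zpow_mem c k)

theorem ext_of_mem (h : TV F p E D z) (hα : α ∈ F.autGroup E) (c : fn α z ∈ D) :
    ∃ β ∈ F.autGroup (NS S E), ∀ x ∈ E, fn α x = fn β x :=
  (h.sat.gen_or_ext h.ess h.idx' hα).resolve_left fun a => h.notMem a c

theorem stab_of_mem (h : TV F p E D z) (hα : α ∈ F.autGroup E) (c : fn α z ∈ D) :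
    α ∈ stab E D ∧ α ∈ stab E (zpowers z) := let ⟨_, _, e⟩ := h.ext_of_mem hα c; h.stab_of_ext e

theorem sup_eq (h : TV F p E D z) (hα : Gen F E α) : D ⊔ zpowers (fn α z) = E :=
  sup_zpowers_eq h.idx h.le (fn_mem α h.memE) (h.notMem hα)

theorem cA_ne (h : TV F p E D z) (hx : x ∈ NS S E) (hx' : x ∉ E) (hα : Gen F E α) :
    cA E x (α ⟨z, h.memE⟩) ≠ α ⟨z, h.memE⟩ := fun e => h.notMem hα (h.mem_of_fix hx hx' (fn_mem α h.memE) (by
  rw [fn_of_mem α h.memE, ← coe_cA hx.2, e]))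

theorem cA_mem (h : TV F p E D z) (hx : x ∈ NS S E) (y : E) : y⁻¹ * cA E x y ∈ zpowers (⟨z, h.memE⟩ : E) :=
  let ⟨k, hk⟩ := mem_zpowers_iff.1 (h.conj x hx y y.2)
  mem_zpowers_iff.2 ⟨k, Subtype.ext (by simpa [coe_cA hx.2] using hk)⟩

theorem cA_fix (h : TV F p E D z) (hx : x ∈ NS S E) : cA E x ⟨z, h.memE⟩ = ⟨z, h.memE⟩ :=
  Subtype.ext ((coe_cA hx.2 _).trans (conj_eq_of_cent h.cent h.mem hx))

theorem key (h : TV F p E D z) (hα : Gen F E α) (hβ : β ∈ F.autGroup E) :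
    fn β z ∈ D ∨ ∃ s ∈ NS S E, fn (β * cA E s * α) z ∈ D := by
  refine or_iff_not_imp_left.2 fun c => ?_
  obtain ⟨x, x1, x2⟩ := exists_of_prime h.idx'
  have b := fn_mem α h.memE
  obtain ⟨d, hd, k, hk⟩ := (mem_sup_zpowers (h.normD (fn_mem β h.memE))).1
    ((sup_zpowers_eq h.idx h.le (fn_mem β h.memE) c).ge (fn_mem β b))
  obtain ⟨n, -, e⟩ := exists_pow_transv (p := p) (Subtype.ext h.pow) (h.cA_fix x1) (h.cA_mem x1 _) (h.cA_ne x1 x2 hα) (-k)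
  refine ⟨x ^ n, pow_mem x1 n, ?_⟩
  rw [fn_mul, fn_mul, cA_pow x1.2, fn_of_mem _ b]
  simp only [fn_of_mem α h.memE, Subtype.coe_eta, e, coe_mul, coe_zpow]
  rw [← fn_of_mem α h.memE, mulOn_fn β b (zpow_mem h.memE _), (mulOn_fn β).map_zpow h.memE, ← hk]
  simpa using hd

theorem mem_kc (h : TV F p E D z) (hα : Gen F E α) (h1 : d ∈ D) (h2 : fn α⁻¹ d ∈ D) : d ∈ kc (F.autGroup E) D := by
  refine Fus.mem_kc.2 ⟨h.le h1, fun β hβ => ?_⟩
  rcases h.key hα hβ with c | ⟨s, s1, c⟩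
  · exact stab_maps (h.stab_of_mem hβ c).1 h1
  · have := stab_maps (h.stab_of_mem (mul_mem (mul_mem hβ (cA_mem_autGroup F h.leS s1.1)) hα.1) c).1 h2
    rwa [fn_mul, fn_mul, fn_fn_inv, fn_cA s1.2 (h.le h1), conj_eq_of_cent h.cent h1 s1] at this

theorem notMem_kc (h : TV F p E D z) : z ∉ kc (F.autGroup E) D := fun c =>
  let ⟨α, hα⟩ := h.sat.exists_gen h.ess; h.notMem hα ((Fus.mem_kc.1 c).2 α hα.1)

theorem kc_sup (h : TV F p E D z) : kc (F.autGroup E) D ⊔ zpowers z = D := by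
  refine le_antisymm (sup_le kc_le (zpowers_le.2 h.mem)) fun d hd => ?_
  obtain ⟨α, hα⟩ := h.sat.exists_gen h.ess
  obtain ⟨u, hu, k, hk⟩ := (mem_sup_zpowers (h.normD (fn_mem α⁻¹ h.memE))).1
    ((h.sup_eq hα.inv).ge (fn_mem α⁻¹ (h.le hd)))
  rw [← inv_mul_cancel_right d (z ^ k)]
  refine mul_mem (mem_sup_left (h.mem_kc hα (mul_mem hd (D.inv_mem (zpow_mem h.mem k))) ?_))
    (mem_sup_right (zpow_mem (mem_zpowers z) k))
  rwa [(mulOn_fn _).map_mul_inv (h.le hd) (zpow_mem h.memE k), (mulOn_fn _).map_zpow h.memE, ← hk, mul_inv_cancel_right]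

theorem exists_eq (h : TV F p E D z) (hd : d ∈ D) : ∃ c ∈ kc (F.autGroup E) D, ∃ k : ℤ, c * z ^ k = d :=
  (mem_sup_zpowers (centralizer_le_normalizer _ (centralizer_le (kc_le.trans h.le) (h.comm h.memE)))).1 (h.kc_sup.ge hd)

theorem idx_kc (h : TV F p E D z) : (kc (F.autGroup E) D).relIndex D = p := by
  have := relIndex_sup_zpowers (centralizer_le_normalizer _ (centralizer_le (kc_le.trans h.le) (h.comm h.memE)))
    (h.pow ▸ one_mem _) h.notMem_kc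
  rwa [h.kc_sup] at this

theorem le_fix (h : TV F p E D z) : autInducedBy S E ≤ fix E D := fun _ ha => by
  obtain ⟨s, s1, s2, rfl⟩ := mem_autInducedBy.1 ha
  exact (cA_mem_fix_iff h.le s2).2 (le_centralizer_iff.1 h.cent ⟨s1, s2⟩)

theorem tau (h : TV F p E D z) (hα : Gen F E α) {l m : ℤ} (hl : (l : ZMod p) * m = 1) :
    ∃ β ∈ F.autGroup (NS S E), β ∈ stab (NS S E) E ∧ fn β z = z ^ l ∧ fn β (fn α z) = fn α z ^ m ∧
      ∀ c ∈ kc (F.autGroup E) D, fn β c = c := by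
  haveI := h.fin
  obtain ⟨x, x1, x2⟩ := exists_of_prime h.idx'
  have a : cA E x ∈ fix E (kc (F.autGroup E) D) := fun c hc => h.le_fix (cA_mem_autInducedBy x1.1) c (kc_le hc)
  obtain ⟨c, ⟨c1, c2⟩, c3, c4⟩ := exists_diag' (K := F.autGroup E ⊓ fix E (kc (F.autGroup E) D)) (p := p)
    (Subtype.ext h.pow) (Subtype.ext (comm_of_cent h.comm h.memE (α ⟨z, h.memE⟩).2))
    ⟨cA_mem_autGroup F h.leS x1.1, a⟩ ⟨mul_mem (mul_mem hα.1 (cA_mem_autGroup F h.leS x1.1)) hα.inv.1,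
      conj_mem_of_norm (stab_le_norm_fix (le_stab_kc hα.1)) a⟩ (h.cA_fix x1) (h.cA_mem x1) (h.cA_ne x1 x2 hα)
      (h.cA_ne x1 x2 hα.inv) hl
  have b : fn c z = z ^ l := by rw [fn_of_mem c h.memE, c3]; rfl
  obtain ⟨β, b1, b2⟩ := h.ext_of_mem c1 (b ▸ zpow_mem h.mem l)
  refine ⟨β, b1, mem_stab_of_fn_eq h.leN b2, b2 z h.memE ▸ b, ?_, fun u hu => b2 u (h.le (kc_le hu)) ▸ c2 u hu⟩
  rw [← b2 _ (fn_mem α h.memE), fn_of_mem c (fn_mem α h.memE)]
  simp only [fn_of_mem α h.memE, Subtype.coe_eta, c4, coe_zpow]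

theorem ext_kc (h : TV F p E D z) (hα : α ∈ F.autGroup E) : ∃ β ∈ F.autGroup (NS S E),
    ∀ c ∈ kc (F.autGroup E) D, fn α c = fn β c := by
  haveI := h.fin
  obtain ⟨b, b1, β, b2, b3⟩ := h.sat.ext_of_norm (H := F.autGroup E ⊓ fix E (kc (F.autGroup E) D))
    (h.sat.ess_fn h.ess) (le_inf (autInducedBy_le F h.leS) fun a ha c hc => h.le_fix ha c (kc_le hc)) inf_le_left hα
    (inf_normalizer_le_normalizer_inf ⟨le_normalizer hα, stab_le_norm_fix (le_stab_kc hα)⟩)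
  exact ⟨β, b2, fun c hc => by rw [← b3 c (h.le (kc_le hc)), b1.2 _ (stab_maps (le_stab_kc hα) hc)]⟩

theorem conj_mem (h : TV F p E D z) (hW : z ∈ W) (hs : s ∈ NS S E) (hy : y ∈ E) (hy' : y ∈ W) : s * y * s⁻¹ ∈ W :=
  mul_inv_cancel_left y (s * y * s⁻¹) ▸ mul_mem hy' (zpowers_le.2 hW (h.conj s hs y hy))

theorem apply_mem (h : TV F p E D z) (hα : Gen F E α) (hβ : β ∈ F.autGroup E) :
    fn β z ∈ zpowers z ⊔ zpowers (fn α z) := by
  rcases h.key hα (Subgroup.inv_mem _ hβ) with c | ⟨s, s1, c⟩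
  · exact mem_sup_left (stab_maps ((Subgroup.inv_mem_iff _).1 (h.stab_of_mem (Subgroup.inv_mem _ hβ) c).2) (mem_zpowers z))
  · obtain ⟨k, hk⟩ := mem_zpowers_iff.1 (stab_maps (Subgroup.inv_mem _ (h.stab_of_mem (mul_mem (mul_mem
      (Subgroup.inv_mem _ hβ) (cA_mem_autGroup F h.leS s1.1)) hα.1) c).2) (mem_zpowers z))
    rw [show β = cA E s * α * (β⁻¹ * cA E s * α)⁻¹ by group, fn_mul, fn_mul, ← hk, (mulOn_fn α).map_zpow h.memE,
      fn_cA s1.2 (zpow_mem (fn_mem α h.memE) k)]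
    exact h.conj_mem (mem_sup_left (mem_zpowers z)) s1 (zpow_mem (fn_mem α h.memE) k)
      (mem_sup_right (zpow_mem (mem_zpowers _) k))

theorem ext_mod (h : TV F p E D z) (hα : Gen F E α) (hβ : β ∈ F.autGroup E) : ∃ γ ∈ F.autGroup (NS S E),
    ∀ y ∈ E, (fn β y)⁻¹ * fn γ y ∈ zpowers z ⊔ zpowers (fn α z) := by
  haveI := h.fin
  have a : zpowers z ⊔ zpowers (fn α z) ≤ E := sup_le (zpowers_le.2 h.memE) (zpowers_le.2 (fn_mem α h.memE))
  haveI := fin_of_le a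
  have a1 : F.autGroup E ≤ stab E (zpowers z ⊔ zpowers (fn α z)) := fun δ hδ => mem_stab_of_maps a
    (((mulOn_fn δ).mono a).maps_sup (by
      rintro _ ⟨k, rfl⟩; exact (mulOn_fn δ).map_zpow h.memE k ▸ zpow_mem (h.apply_mem hα hδ) k) (by
      rintro _ ⟨k, rfl⟩
      exact (mulOn_fn δ).map_zpow (fn_mem α h.memE) k ▸ zpow_mem (fn_mul δ α z ▸ h.apply_mem hα (mul_mem hδ hα.1)) k))
  obtain ⟨b, b1, γ, b2, b3⟩ := h.sat.ext_of_norm (H := F.autGroup E ⊓ trivOn E E (zpowers z ⊔ zpowers (fn α z)))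
    (h.sat.ess_fn h.ess) (le_inf (autInducedBy_le F h.leS) fun a ha => ⟨a1 (autInducedBy_le F h.leS ha), by
      obtain ⟨s, s1, s2, rfl⟩ := mem_autInducedBy.1 ha
      exact fun y hy _ => fn_cA s2 hy ▸ mem_sup_left (h.conj s ⟨s1, s2⟩ y hy)⟩) inf_le_left hβ
    (inf_normalizer_le_normalizer_inf ⟨le_normalizer hβ, le_norm_trivOn ⟨stab_self.ge (mem_top β), a1 hβ⟩⟩)
  exact ⟨γ, b2, fun y hy => b3 y hy ▸ b1.2.2 _ (fn_mem β hy) (fn_mem β hy)⟩

end TV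

end CF.Fus
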